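import Groth.Agent.L05.EtRamProper.Galois
import Groth.Prelude.Def_FEt
import Groth.Prelude.Def_PiSp
import Mathlib.AlgebraicGeometry.ResidueField
import Mathlib.AlgebraicGeometry.Morphisms.Etale
import Mathlib.FieldTheory.PrimitiveElement
import Mathlib.FieldTheory.IsAlgClosed.AlgebraicClosure
import Mathlib.GroupTheory.GroupAction.Quotient
import Mathlib.RingTheory.Unramified.Field
import Mathlib.RingTheory.TensorProduct.Finite

/-!
Residue field extensions of Galois covers are Galois of degree dividing the order of the group, hence tame when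
this order is invertible.
-/

set_option autoImplicit false
set_option linter.style.haveILetI false
set_option maxSynthPendingDepth 3
universe u v w

open CategoryTheory AlgebraicGeometry TensorProduct

namespace Groth.L05.EtRamProper

/-- The residue extensions of a finite etale morphism are finite separable. -/
theorem finite_separable_residueField {X Y : Scheme.{u}} (f : Y ⟶ X) [IsFinite f] [Etale f] (y : Y) :
    letI : Algebra (X.residueField (f.base y)) (Y.residueField y) := (f.residueFieldMap y).hom.toAlgebra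
    FiniteDimensional (X.residueField (f.base y)) (Y.residueField y) ∧
      Algebra.IsSeparable (X.residueField (f.base y)) (Y.residueField y) := by
  letI : Algebra (X.residueField (f.base y)) (Y.residueField y) := (f.residueFieldMap y).hom.toAlgebra
  obtain ⟨_, ⟨U, hU, rfl⟩, hx, -⟩ := X.isBasis_affineOpens.exists_subset_of_mem_open
    (Set.mem_univ (f.base y)) isOpen_univ
  have hW : IsAffineOpen (f ⁻¹ᵁ U) := hU.preimage f
  letI : Algebra Γ(X, U) Γ(Y, f ⁻¹ᵁ U) := (f.app U).hom.toAlgebra
  haveI : Module.Finite Γ(X, U) Γ(Y, f ⁻¹ᵁ U) := f.finite_app U hU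
  haveI : Algebra.Etale Γ(X, U) Γ(Y, f ⁻¹ᵁ U) := by
    have h := HasRingHomProperty.appLE (P := @Etale) f inferInstance ⟨U, hU⟩ ⟨f ⁻¹ᵁ U, hW⟩ le_rfl
    rw [Scheme.Hom.appLE_eq_app] at h
    exact h
  letI : Algebra Γ(X, U) (X.residueField (f.base y)) := (X.evaluation U (f.base y) hx).hom.toAlgebra
  letI : Algebra Γ(X, U) (Y.residueField y) :=
    ((f.residueFieldMap y).hom.comp (X.evaluation U (f.base y) hx).hom).toAlgebra
  haveI : IsScalarTower Γ(X, U) (X.residueField (f.base y)) (Y.residueField y) :=
    IsScalarTower.of_algebraMap_eq fun _ => rfl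
  let e : Γ(Y, f ⁻¹ᵁ U) →ₐ[Γ(X, U)] Y.residueField y := { (Y.evaluation (f ⁻¹ᵁ U) y hx).hom with
    commutes' := fun r => (Scheme.evaluation_naturality_apply f y hx r).symm }
  let Φ : X.residueField (f.base y) ⊗[Γ(X, U)] Γ(Y, f ⁻¹ᵁ U) →ₐ[X.residueField (f.base y)] Y.residueField y :=
    Algebra.TensorProduct.lift (Algebra.ofId _ _) e fun _ _ => .all _ _
  have hmem : ∀ c, e c ∈ Φ.range := fun c => ⟨1 ⊗ₜ c, by
    show Algebra.TensorProduct.lift _ _ _ (1 ⊗ₜ c) = _
    rw [Algebra.TensorProduct.lift_tmul, map_one, one_mul]⟩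
  haveI : Module.Finite (X.residueField (f.base y)) Φ.range :=
    Module.Finite.of_surjective Φ.rangeRestrict.toLinearMap Φ.rangeRestrict_surjective
  have hD : IsField Φ.range := @isField_of_isIntegral_of_isField' (X.residueField (f.base y)) Φ.range _ _ _ _ _
    (Field.toIsField _)
  have hsurj : Function.Surjective Φ := fun z => by
    obtain ⟨z', hz'⟩ : ∃ z' : Y.presheaf.stalk y, (Y.residue y).hom z' = z := IsLocalRing.residue_surjective z
    letI := Y.presheaf.algebra_section_stalk (U := f ⁻¹ᵁ U) ⟨y, hx⟩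
    haveI := hW.isLocalization_stalk ⟨y, hx⟩
    obtain ⟨c, t, rfl⟩ := IsLocalization.exists_mk'_eq (hW.primeIdealOf ⟨y, hx⟩).asIdeal.primeCompl z'
    have hne : e t ≠ 0 := ((IsLocalization.map_units (M := (hW.primeIdealOf ⟨y, hx⟩).asIdeal.primeCompl)
      (Y.presheaf.stalk y) t).map (Y.residue y).hom).ne_zero
    obtain ⟨b, hb⟩ := hD.mul_inv_cancel (a := ⟨_, hmem t⟩) fun h => hne (congrArg Subtype.val h)
    have hb' : e t * (b : Y.residueField y) = 1 := congrArg Subtype.val hb
    have hzc : z * e t = e c := by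
      rw [← hz']
      exact (map_mul (Y.residue y).hom _ _).symm.trans (congrArg _ (IsLocalization.mk'_spec _ c t))
    refine AlgHom.mem_range Φ |>.mp ?_
    rw [show z = e c * b by rw [← hzc, mul_assoc, hb', mul_one]]
    exact Φ.range.mul_mem (hmem c) b.2
  haveI : FiniteDimensional (X.residueField (f.base y)) (Y.residueField y) :=
    Module.Finite.of_surjective Φ.toLinearMap hsurj
  haveI : Algebra.FormallyUnramified (X.residueField (f.base y)) (Y.residueField y) :=
    Algebra.FormallyUnramified.of_surjective Φ hsurj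
  exact ⟨inferInstance, Algebra.FormallyUnramified.isSeparable _ _⟩

/-- A fibre of a map compatible with a transitive action has cardinality dividing the order of the group. -/
theorem card_fibre_dvd {G : Type v} [Group G] {F : Type w} [MulAction G F]
    [MulAction.IsPretransitive G F] {Y : Type*} (pt : F → Y)
    (hpt : ∀ (g : G) (s t : F), pt s = pt t → pt (g • s) = pt (g • t)) (s₀ : F) :
    Nat.card {s : F // pt s = pt s₀} ∣ Nat.card G := by
  let H : Subgroup G :=
    { carrier := {g | pt (g • s₀) = pt s₀}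
      mul_mem' := fun {g h} hg hh => by
        show pt ((g * h) • s₀) = pt s₀
        rw [mul_smul, hpt g _ s₀ hh]; exact hg
      one_mem' := by show pt ((1 : G) • s₀) = pt s₀; rw [one_smul]
      inv_mem' := fun {g} hg => by
        show pt (g⁻¹ • s₀) = pt s₀
        rw [hpt g⁻¹ s₀ (g • s₀) hg.symm, inv_smul_smul] }
  let e : MulAction.orbit H s₀ ≃ {s : F // pt s = pt s₀} :=
    { toFun := fun s => ⟨s.1, by obtain ⟨h, hh⟩ := s.2; rw [← hh]; exact h.2⟩
      invFun := fun s => ⟨s.1, by
        obtain ⟨g, hg⟩ := MulAction.exists_smul_eq G s₀ s.1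
        exact ⟨⟨g, show pt (g • s₀) = pt s₀ by rw [hg]; exact s.2⟩, hg⟩⟩
      left_inv := fun _ => rfl
      right_inv := fun _ => rfl }
  rw [← Nat.card_congr e]
  refine dvd_trans ?_ H.card_subgroup_dvd_card
  rw [Nat.card_congr (MulAction.orbitEquivQuotientStabilizer H s₀)]
  exact Subgroup.index_dvd_card _

/-- Covers with a group of invertible order transitive on geometric fibres are tame. -/
theorem isTamelyRamified_of_transitive {k : Type u} [Field k] {X Y : Scheme.{u}} (f : Y ⟶ X) [IsFinite f] [Etale f]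
    {G : Type v} [Group G] (ρ : G → (Y ⟶ Y)) (hone : ρ 1 = 𝟙 Y) (hmul : ∀ g h, ρ (g * h) = ρ h ≫ ρ g)
    (hρ : ∀ g, ρ g ≫ f = f)
    (htrans : ∀ (Ω : Type u) [Field Ω] [IsAlgClosed Ω] (s t : Spec (CommRingCat.of Ω) ⟶ Y),
      s ≫ f = t ≫ f → ∃ g, s ≫ ρ g = t)
    (hn : (Nat.card G : k) ≠ 0) (z : Y) (A : ValuationSubring (X.residueField (f.base z))) [IsDiscreteValuationRing A]
    (a : Spec (CommRingCat.of A) ⟶ Spec (CommRingCat.of k)) :
    EtRam.IsTamelyRamified A ((f.residueFieldMap z).hom.comp A.subtype) := by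
  classical
  letI algKL : Algebra (X.residueField (f.base z)) (Y.residueField z) := (f.residueFieldMap z).hom.toAlgebra
  obtain ⟨hfin, hsep⟩ := finite_separable_residueField f z
  haveI := hfin
  haveI := hsep
  let Ω := AlgebraicClosure (Y.residueField z)
  let i : Y.residueField z ⟶ CommRingCat.of Ω := CommRingCat.ofHom (algebraMap (Y.residueField z) Ω)
  let ξ : Spec (CommRingCat.of Ω) ⟶ X := Spec.map (f.residueFieldMap z ≫ i) ≫ X.fromSpecResidueField _
  let F := {p : Spec (CommRingCat.of Ω) ⟶ Y // p ≫ f = ξ}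
  letI : MulAction G F :=
    { smul := fun g p => ⟨p.1 ≫ ρ g, by rw [Category.assoc, hρ, p.2]⟩
      one_smul := fun p => Subtype.ext (show p.1 ≫ ρ 1 = p.1 by rw [hone, Category.comp_id])
      mul_smul := fun g h p => Subtype.ext
        (show p.1 ≫ ρ (g * h) = (p.1 ≫ ρ h) ≫ ρ g by rw [hmul, Category.assoc]) }
  haveI : MulAction.IsPretransitive G F := ⟨fun p q => by
    obtain ⟨g, hg⟩ := htrans Ω p.1 q.1 (p.2.trans q.2.symm)
    exact ⟨g, Subtype.ext hg⟩⟩
  let o : Spec (CommRingCat.of Ω) := IsLocalRing.closedPoint Ω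
  let pt : F → Y := fun p => p.1.base o
  -- points from embeddings
  let emb : (Y.residueField z →ₐ[X.residueField (f.base z)] Ω) → F := fun j =>
    ⟨Spec.map (CommRingCat.ofHom j.toRingHom) ≫ Y.fromSpecResidueField z, by
      rw [Category.assoc, ← Scheme.Hom.SpecMap_residueFieldMap_fromSpecResidueField, ← Spec.map_comp_assoc]
      exact congrArg (fun m : X.residueField (f.base z) ⟶ CommRingCat.of Ω => Spec.map m ≫ X.fromSpecResidueField (f.base z))
        (CommRingCat.hom_ext (RingHom.ext fun r => (j.commutes r).trans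
          (IsScalarTower.algebraMap_apply _ (Y.residueField z) Ω r)))⟩
  have hemb : ∀ j, pt (emb j) = z := fun j => by
    show (Spec.map (CommRingCat.ofHom j.toRingHom) ≫ Y.fromSpecResidueField z).base o = z
    exact (Scheme.Hom.comp_apply _ _ o).trans (Scheme.fromSpecResidueField_apply _ _)
  let j₀ : Y.residueField z →ₐ[X.residueField (f.base z)] Ω := IsScalarTower.toAlgHom _ _ Ω
  have hj₀ : (emb j₀).1 = Spec.map i ≫ Y.fromSpecResidueField z := rfl
  have hinj : Function.Injective emb := fun j j' h => by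
    have h1 := Spec.map_injective ((cancel_mono (Y.fromSpecResidueField z)).mp (congrArg Subtype.val h))
    exact AlgHom.ext fun r => ConcreteCategory.congr_hom h1 r
  have hsurj : ∀ p : F, pt p = z → ∃ j, emb j = p := fun p hp => by
    obtain ⟨φ, hφ⟩ : ∃ φ : Y.residueField z ⟶ CommRingCat.of Ω,
        Spec.map φ ≫ Y.fromSpecResidueField z = p.1 := by
      obtain ⟨⟨z', φ'⟩, h⟩ := (Scheme.SpecToEquivOfField Ω Y).symm.surjective p.1
      have hz' : z' = z := by
        rw [← hp]
        show z' = p.1.base o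
        rw [← h]
        exact ((Scheme.Hom.comp_apply _ _ o).trans (Scheme.fromSpecResidueField_apply _ _)).symm
      subst hz'
      exact ⟨φ', h⟩
    have hover : f.residueFieldMap z ≫ φ = f.residueFieldMap z ≫ i := by
      refine Spec.map_injective ((cancel_mono (X.fromSpecResidueField _)).mp ?_)
      rw [Spec.map_comp, Category.assoc, Scheme.Hom.SpecMap_residueFieldMap_fromSpecResidueField, ← Category.assoc, hφ,
        p.2]
    exact ⟨{ φ.hom with
      commutes' := fun r => (ConcreteCategory.congr_hom hover r).trans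
        (IsScalarTower.algebraMap_apply _ (Y.residueField z) Ω r).symm }, Subtype.ext hφ⟩
  -- every embedding comes from an automorphism
  have haut : ∀ j : Y.residueField z →ₐ[X.residueField (f.base z)] Ω,
      ∃ b : Y.residueField z →ₐ[X.residueField (f.base z)] Y.residueField z, j₀.comp b = j := by
    intro j
    obtain ⟨g, hg⟩ := MulAction.exists_smul_eq G (emb j₀) (emb j)
    have h1 : (emb j₀).1 ≫ ρ g = (emb j).1 := congrArg Subtype.val hg
    have hzg : z = (ρ g).base z := by
      have h2 : (ρ g).base (pt (emb j₀)) = pt (emb j) :=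
        congrArg (fun m : Spec (CommRingCat.of Ω) ⟶ Y => m.base o) h1
      rw [hemb, hemb] at h2
      exact h2.symm
    rw [hj₀, Category.assoc, ← Scheme.Hom.SpecMap_residueFieldMap_fromSpecResidueField,
      ← Scheme.residueFieldCongr_fromSpecResidueField hzg, ← Spec.map_comp_assoc, ← Spec.map_comp_assoc] at h1
    have h3 := Spec.map_injective ((cancel_mono (Y.fromSpecResidueField z)).mp h1)
    let bh : Y.residueField z →+* Y.residueField z :=
      ((Y.residueFieldCongr hzg).hom ≫ (ρ g).residueFieldMap z).hom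
    have hb : ∀ r, algebraMap _ Ω (bh r) = j r := fun r => ConcreteCategory.congr_hom h3 r
    exact ⟨{ bh with
      commutes' := fun r => (algebraMap (Y.residueField z) Ω).injective
        ((hb _).trans ((j.commutes r).trans (IsScalarTower.algebraMap_apply _ (Y.residueField z) Ω r))) },
      AlgHom.ext hb⟩
  have hcard : Nat.card (Y.residueField z →ₐ[X.residueField (f.base z)] Ω) =
      Module.finrank (X.residueField (f.base z)) (Y.residueField z) := by
    rw [Nat.card_eq_fintype_card, AlgHom.card]
  haveI : IsGalois (X.residueField (f.base z)) (Y.residueField z) := by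
    refine IsGalois.of_card_aut_eq_finrank _ _ ?_
    rw [← hcard]
    refine Nat.card_eq_of_bijective (fun b => j₀.comp b.toAlgHom) ⟨fun b b' h => ?_, fun j => ?_⟩
    · exact AlgEquiv.ext fun r => (algebraMap (Y.residueField z) Ω).injective (AlgHom.congr_fun h r)
    · obtain ⟨b, hb⟩ := haut j
      exact ⟨AlgEquiv.ofBijective b (Algebra.IsAlgebraic.algHom_bijective b), hb⟩
  have hdvd : Module.finrank (X.residueField (f.base z)) (Y.residueField z) ∣ Nat.card G := by
    rw [← hcard]
    refine (dvd_of_eq ?_).trans (card_fibre_dvd (G := G) pt (fun g p q h => ?_) (emb j₀))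
    · refine Nat.card_eq_of_bijective (fun j => ⟨emb j, (hemb j).trans (hemb j₀).symm⟩)
        ⟨fun j j' h => hinj (congrArg Subtype.val h), fun p => ?_⟩
      obtain ⟨j, hj⟩ := hsurj p.1 (p.2.trans (hemb j₀))
      exact ⟨j, Subtype.ext hj⟩
    · exact congrArg (ρ g).base h
  let T : k →+* IsLocalRing.ResidueField A :=
    (IsLocalRing.residue A).comp (Spec.preimage a).hom
  have hn' : (Module.finrank (X.residueField (f.base z)) (Y.residueField z) :
      IsLocalRing.ResidueField A) ≠ 0 := by
    obtain ⟨c, hc⟩ := hdvd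
    intro h0
    refine hn (T.injective ?_)
    rw [map_zero, map_natCast, hc, Nat.cast_mul, h0, zero_mul]
  letI : Algebra A (Y.residueField z) := ((f.residueFieldMap z).hom.comp A.subtype).toAlgebra
  haveI : IsScalarTower A (X.residueField (f.base z)) (Y.residueField z) :=
    IsScalarTower.of_algebraMap_eq fun _ => rfl
  exact isTamelyRamified_of_galois (K := X.residueField (f.base z)) hn'

/-- Galois covers of order invertible in the base field are tame. -/
theorem isTamelyRamified_of_galoisCover {k : Type u} [Field k] {X : Scheme.{u}}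
    (Z : FEt.Cat X) (hZ : PiSp.IsGaloisCover Z) (hn : (Nat.card (Aut Z) : k) ≠ 0) (z : Z.left)
    (A : ValuationSubring (X.residueField (Z.hom.base z))) [IsDiscreteValuationRing A]
    (a : Spec (CommRingCat.of A) ⟶ Spec (CommRingCat.of k)) :
    EtRam.IsTamelyRamified A ((Z.hom.residueFieldMap z).hom.comp A.subtype) := by
  haveI : IsFinite Z.hom := Z.prop.1
  haveI : Etale Z.hom := Z.prop.2
  exact @isTamelyRamified_of_transitive k _ X Z.left Z.hom _ _ (Aut Z) _ (fun σ => σ.hom.left) rfl (fun g h => rfl)
    (fun σ => Over.w σ.hom.hom)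
    (fun Ω _ _ s t h => by
      obtain ⟨σ, hσ⟩ := hZ.2 Ω (s ≫ Z.hom) ⟨s, rfl⟩ ⟨t, h.symm⟩
      exact ⟨σ, congrArg Subtype.val hσ⟩)
    hn z A ‹_› a

end Groth.L05.EtRamProper
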