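import Groth.Agent.L05.EtRamProper.Ring
import Mathlib.AlgebraicGeometry.ValuativeCriterion
import Mathlib.AlgebraicGeometry.Morphisms.Proper
import Mathlib.AlgebraicGeometry.Morphisms.Etale
import Mathlib.AlgebraicGeometry.ResidueField
import Mathlib.RingTheory.Valuation.ValuationSubring

/-!
A finite etale cover of a proper scheme is unramified along every valuation ring of a residue field of the base.
-/

set_option autoImplicit false
set_option linter.style.haveILetI false
universe u

open CategoryTheory AlgebraicGeometry TopologicalSpace Opposite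

namespace Groth.L05.EtRamProper

/-- A valuation ring of a residue field over the base of a proper scheme has a centre. -/
theorem exists_centre {S X : Scheme.{u}} (s : X ⟶ S) [IsProper s] (x : X) (A : ValuationSubring (X.residueField x))
    (a : Spec (CommRingCat.of A) ⟶ S)
    (ha : Spec.map (CommRingCat.ofHom A.subtype) ≫ a = X.fromSpecResidueField x ≫ s) :
    ∃ (U : X.Opens) (_ : IsAffineOpen U) (hx : x ∈ U) (ρ : Γ(X, U) →+* A),
      ∀ r, (ρ r : X.residueField x) = (X.evaluation U x hx).hom r := by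
  have hex : ValuativeCriterion.Existence s := by
    have h : (@UniversallyClosed) s := inferInstance
    rw [UniversallyClosed.eq_valuativeCriterion] at h
    exact h.1
  let sq : ValuativeCommSq s :=
    { R := A
      K := X.residueField x
      i₁ := X.fromSpecResidueField x
      i₂ := a
      commSq := ⟨ha.symm⟩ }
  obtain ⟨⟨⟨l, hl, -⟩⟩⟩ := hex sq
  change Spec (CommRingCat.of A) ⟶ X at l
  change Spec.map (CommRingCat.ofHom A.subtype) ≫ l = X.fromSpecResidueField x at hl
  obtain ⟨_, ⟨U, hU, rfl⟩, hlU, -⟩ := X.isBasis_affineOpens.exists_subset_of_mem_open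
    (Set.mem_univ (l.base (IsLocalRing.closedPoint A))) isOpen_univ
  have hsub : l ⁻¹ᵁ U = ⊤ := by
    refine top_unique fun z _ => ?_
    exact (IsLocalRing.specializes_closedPoint (z : PrimeSpectrum A)).mem_open (l ⁻¹ᵁ U).2 hlU
  have hrange : Set.range l.base ⊆ Set.range hU.fromSpec.base := by
    rw [hU.range_fromSpec]
    rintro _ ⟨z, rfl⟩
    exact (hsub.ge trivial : z ∈ l ⁻¹ᵁ U)
  let q := IsOpenImmersion.lift hU.fromSpec l hrange
  have hx : x ∈ U := by
    obtain ⟨z⟩ : Nonempty (Spec (X.residueField x)) := inferInstance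
    have h : l.base ((Spec.map (CommRingCat.ofHom A.subtype)).base z) ∈ U :=
      hsub.ge (trivial : (Spec.map (CommRingCat.ofHom A.subtype)).base z ∈ (⊤ : (Spec (CommRingCat.of A)).Opens))
    have h2 := congrArg (fun m : Spec (X.residueField x) ⟶ X => m.base z) hl
    simp only [Scheme.Hom.comp_base, TopCat.comp_app] at h2
    rw [h2, Scheme.fromSpecResidueField_apply] at h
    exact h
  refine ⟨U, hU, hx, (Spec.preimage q).hom, fun r => ?_⟩
  have heq : Spec.preimage q ≫ CommRingCat.ofHom A.subtype = X.evaluation U x hx := by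
    refine Spec.map_injective ((cancel_mono hU.fromSpec).mp ?_)
    rw [Spec.map_comp, Spec.map_preimage, Category.assoc, IsOpenImmersion.lift_fac, hl, Scheme.fromSpecResidueField,
      ← hU.fromSpecStalk_eq_fromSpecStalk hx, IsAffineOpen.fromSpecStalk, ← Spec.map_comp_assoc]
    rfl
  exact ConcreteCategory.congr_hom heq r

/-- Finite etale covers of proper schemes are tame along every discrete valuation ring of a residue field. -/
theorem isTamelyRamified {S X Y : Scheme.{u}} (s : X ⟶ S) [IsProper s] (f : Y ⟶ X) [IsFinite f] [Etale f] (y : Y)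
    (A : ValuationSubring (X.residueField (f.base y))) [IsDiscreteValuationRing A]
    (a : Spec (CommRingCat.of A) ⟶ S)
    (ha : Spec.map (CommRingCat.ofHom A.subtype) ≫ a = X.fromSpecResidueField (f.base y) ≫ s) :
    EtRam.IsTamelyRamified A ((f.residueFieldMap y).hom.comp A.subtype) := by
  obtain ⟨U, hU, hx, ρ, hρ⟩ := exists_centre s (f.base y) A a ha
  have hW : IsAffineOpen (f ⁻¹ᵁ U) := hU.preimage f
  letI : Algebra Γ(X, U) Γ(Y, f ⁻¹ᵁ U) := (f.app U).hom.toAlgebra
  haveI : Module.Finite Γ(X, U) Γ(Y, f ⁻¹ᵁ U) := f.finite_app U hU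
  haveI : Algebra.Etale Γ(X, U) Γ(Y, f ⁻¹ᵁ U) := by
    have h := HasRingHomProperty.appLE (P := @Etale) f inferInstance ⟨U, hU⟩ ⟨f ⁻¹ᵁ U, hW⟩ le_rfl
    rw [Scheme.Hom.appLE_eq_app] at h
    exact h
  refine isTamelyRamified_of_etale A (f.residueFieldMap y).hom ρ (Y.evaluation (f ⁻¹ᵁ U) y hx).hom (fun r => ?_)
    fun z => ?_
  · rw [hρ]
    exact (Scheme.evaluation_naturality_apply f y hx r).symm
  · obtain ⟨z, rfl⟩ := IsLocalRing.residue_surjective (R := Y.presheaf.stalk y) z
    letI := Y.presheaf.algebra_section_stalk (U := f ⁻¹ᵁ U) ⟨y, hx⟩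
    haveI := hW.isLocalization_stalk ⟨y, hx⟩
    obtain ⟨c, t, rfl⟩ := IsLocalization.exists_mk'_eq (hW.primeIdealOf ⟨y, hx⟩).asIdeal.primeCompl z
    refine ⟨c, t, ?_, ?_⟩
    · exact ((IsLocalization.map_units (M := (hW.primeIdealOf ⟨y, hx⟩).asIdeal.primeCompl)
        (Y.presheaf.stalk y) t).map (IsLocalRing.residue _)).ne_zero
    · exact ((map_mul (IsLocalRing.residue (Y.presheaf.stalk y)) _ _).symm.trans
        (congrArg _ (IsLocalization.mk'_spec _ c t)))

end Groth.L05.EtRamProper
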