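import Groth.Prelude.Def_EtRam
import Groth.Agent.L05.SepResidueSol.Valuation
import Groth.Agent.L05.Abhyankar.LocalData
import Groth.Agent.L05.PrimeDegree.Valued
import Mathlib.RingTheory.Etale.Basic
import Mathlib.RingTheory.Unramified.Field
import Mathlib.RingTheory.TensorProduct.Finite

/-!
A field generated by a finite etale algebra defined over a discrete valuation ring is unramified there.
-/

set_option autoImplicit false
set_option linter.style.haveILetI false
set_option linter.unusedSectionVars false
set_option maxSynthPendingDepth 3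
universe u

open IsLocalRing TensorProduct

namespace Groth.L05.EtRamProper

theorem isTamelyRamified_of_etale {K L : Type u} [Field K] [Field L] (A : ValuationSubring K)
    [IsDiscreteValuationRing A] (g : K →+* L) {R C : Type u} [CommRing R] [CommRing C] [Algebra R C]
    [Module.Finite R C] [Algebra.Etale R C] (ρ : R →+* A) (e : C →+* L)
    (he : ∀ r : R, e (algebraMap R C r) = g (ρ r))
    (hgen : ∀ z : L, ∃ c s : C, e s ≠ 0 ∧ z * e s = e c) :
    EtRam.IsTamelyRamified A (g.comp A.subtype) := by
  classical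
  letI : Algebra K L := g.toAlgebra
  letI : Algebra A L := (g.comp A.subtype).toAlgebra
  haveI : IsScalarTower A K L := IsScalarTower.of_algebraMap_eq fun _ => rfl
  letI : Algebra R A := ρ.toAlgebra
  letI : Algebra R K := (A.subtype.comp ρ).toAlgebra
  letI : Algebra R L := ((g.comp A.subtype).comp ρ).toAlgebra
  haveI : IsScalarTower R K L := IsScalarTower.of_algebraMap_eq fun _ => rfl
  haveI : IsScalarTower R A L := IsScalarTower.of_algebraMap_eq fun _ => rfl
  let ea : C →ₐ[R] L := { e with commutes' := he }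
  -- finiteness
  haveI : FiniteDimensional K L := by
    let Φ : K ⊗[R] C →ₐ[K] L := Algebra.TensorProduct.lift (Algebra.ofId K L) ea fun _ _ => .all _ _
    let D := Φ.range
    haveI : Module.Finite K D := Module.Finite.of_surjective Φ.rangeRestrict.toLinearMap Φ.rangeRestrict_surjective
    haveI : IsDomain D := inferInstance
    have hD : IsField D := @isField_of_isIntegral_of_isField' K D _ _ _ _ _ (Field.toIsField K)
    have hmem : ∀ c : C, ea c ∈ D := fun c => ⟨1 ⊗ₜ c, by
      show Algebra.TensorProduct.lift _ _ _ (1 ⊗ₜ c) = _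
      rw [Algebra.TensorProduct.lift_tmul, map_one, one_mul]⟩
    have htop : D = ⊤ := top_unique fun z _ => by
      obtain ⟨c, s, hs, hz⟩ := hgen z
      obtain ⟨t, ht⟩ := hD.mul_inv_cancel (a := ⟨ea s, hmem s⟩) fun h => hs (congrArg Subtype.val h)
      have ht' : e s * (t : L) = 1 := congrArg Subtype.val ht
      rw [show z = e c * (t : L) by rw [← hz, mul_assoc, ht', mul_one]]
      exact D.mul_mem (hmem c) t.2
    exact Module.Finite.of_surjective D.val.toLinearMap fun z => ⟨⟨z, htop ▸ Algebra.mem_top⟩, rfl⟩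
  obtain ⟨π, hπ⟩ := IsDiscreteValuationRing.exists_irreducible A
  intro V hV
  letI : Algebra A V := (RingHom.codRestrict (g.comp A.subtype) V hV.1).toAlgebra
  intro hloc
  haveI : IsScalarTower A V L := IsScalarTower.of_algebraMap_eq fun _ => rfl
  letI : Algebra R V := ((algebraMap A V).comp ρ).toAlgebra
  haveI : IsScalarTower R V L := IsScalarTower.of_algebraMap_eq fun _ => rfl
  haveI : IsScalarTower R A V := IsScalarTower.of_algebraMap_eq fun _ => rfl
  obtain ⟨hdW, hsepW⟩ := Groth.L05.SepResidueSol.isDiscreteValuationRing_of_finite A K V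
  haveI := hdW
  have hCV : ∀ c : C, e c ∈ V := fun c => by
    have h : IsIntegral V (ea c) := ((Algebra.IsIntegral.isIntegral (R := R) c).map ea).tower_top
    obtain ⟨y, hy⟩ := IsIntegrallyClosedIn.isIntegral_iff.mp h
    exact hy ▸ y.2
  let eV : C →ₐ[R] V := { e.codRestrict V.toSubring hCV with commutes' := fun r => Subtype.ext (he r) }
  let ψ : A ⊗[R] C →ₐ[A] V := Algebra.TensorProduct.lift (Algebra.ofId A V) eV fun _ _ => .all _ _
  let P : A ⊗[R] C := π ⊗ₜ 1
  have hψP : ψ P = algebraMap A V π := by
    show Algebra.TensorProduct.lift _ _ _ (π ⊗ₜ 1) = _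
    rw [Algebra.TensorProduct.lift_tmul, map_one, mul_one]
    rfl
  have hπu : ¬ IsUnit (algebraMap A V π) := fun h => hπ.not_isUnit ((isUnit_map_iff _ π).mp h)
  have hπ0 : algebraMap A V π ≠ 0 := fun h => hπ.ne_zero
    ((Groth.L05.PrimeDegree.injective_algebraMap A K (L := L)) (by
      rw [map_zero, IsScalarTower.algebraMap_apply A V L, h, map_zero]))
  haveI : Module.Finite (ResidueField A) (ResidueField A ⊗[R] C) := inferInstance
  haveI : IsArtinianRing (ResidueField A ⊗[R] C) := IsArtinianRing.of_finite (ResidueField A) (ResidueField A ⊗[R] C)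
  haveI : _root_.IsReduced (ResidueField A ⊗[R] C) := Algebra.FormallyUnramified.isReduced_of_field (ResidueField A) (ResidueField A ⊗[R] C)
  haveI : IsSemisimpleRing (ResidueField A ⊗[R] C) := IsArtinianRing.isSemisimpleRing_of_isReduced _
  haveI : IsSemisimpleRing ((A ⊗[R] C) ⧸ Ideal.span {P}) := by
    let g₁ : ResidueField A →+* (A ⊗[R] C) ⧸ Ideal.span {P} :=
      Ideal.Quotient.lift (maximalIdeal A) ((Ideal.Quotient.mk (Ideal.span {P})).comp Algebra.TensorProduct.includeLeftRingHom)
        fun a ha => by
          rw [hπ.maximalIdeal_eq, Ideal.mem_span_singleton] at ha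
          obtain ⟨c, rfl⟩ := ha
          refine Ideal.Quotient.eq_zero_iff_mem.mpr ?_
          rw [map_mul]
          exact Ideal.mul_mem_right _ _ (Ideal.mem_span_singleton_self _)
    let g₁' : ResidueField A →ₐ[R] (A ⊗[R] C) ⧸ Ideal.span {P} :=
      { g₁ with commutes' := fun r => rfl }
    let Θ : (ResidueField A ⊗[R] C) →ₐ[R] (A ⊗[R] C) ⧸ Ideal.span {P} := Algebra.TensorProduct.lift g₁'
      ((Ideal.Quotient.mkₐ R (Ideal.span {P})).comp Algebra.TensorProduct.includeRight) fun _ _ => .all _ _
    refine RingHom.isSemisimpleRing_of_surjective Θ.toRingHom fun z => ?_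
    obtain ⟨z, rfl⟩ := Ideal.Quotient.mk_surjective z
    induction z using TensorProduct.induction_on with
    | zero => exact ⟨0, by rw [map_zero, map_zero]⟩
    | tmul a c =>
      refine ⟨residue A a ⊗ₜ c, ?_⟩
      show Algebra.TensorProduct.lift _ _ _ (residue A a ⊗ₜ c) = _
      rw [Algebra.TensorProduct.lift_tmul]
      show Ideal.Quotient.mk _ (a ⊗ₜ[R] (1 : C)) * Ideal.Quotient.mk _ ((1 : A) ⊗ₜ[R] c) = _
      rw [← map_mul, Algebra.TensorProduct.tmul_mul_tmul, mul_one, one_mul]
    | add x y hx hy =>
      obtain ⟨x', hx'⟩ := hx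
      obtain ⟨y', hy'⟩ := hy
      exact ⟨x' + y', by rw [map_add, hx', hy', map_add]⟩
  have hψc : ∀ c : C, (ψ (1 ⊗ₜ c) : L) = e c := fun c => by
    show ((Algebra.TensorProduct.lift (Algebra.ofId A V) eV _ (1 ⊗ₜ c) : V) : L) = _
    rw [Algebra.TensorProduct.lift_tmul, map_one, one_mul]
    rfl
  obtain ⟨hmax, hres⟩ := Groth.L05.Abhyankar.local_data V ψ.toRingHom P (hψP.symm ▸ hπ0) (hψP.symm ▸ hπu)
    (fun x hx => by
      obtain ⟨N, hN⟩ := hsepW hπ x hx
      exact ⟨N, hψP.symm ▸ hN⟩)
    (fun z => by
      obtain ⟨c, s, hs, hz⟩ := hgen z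
      rw [eq_div_iff_mul_eq hs |>.mpr hz]
      exact div_mem (Subfield.subset_closure ⟨1 ⊗ₜ c, hψc c⟩) (Subfield.subset_closure ⟨1 ⊗ₜ s, hψc s⟩))
  replace hmax : maximalIdeal V = Ideal.span {algebraMap A V π} := hψP ▸ hmax
  have hmap : (maximalIdeal A).map (algebraMap A V) = maximalIdeal V := by
    rw [hπ.maximalIdeal_eq, Ideal.map_span, Set.image_singleton, hmax]
  refine ⟨?_, fun p hp _ => ?_⟩
  · haveI := Groth.L05.SepResidueSol.finite_residueField A K V
    haveI : IsScalarTower R (ResidueField A) (ResidueField V) := IsScalarTower.of_algebraMap_eq fun _ => rfl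
    let eR : C →ₐ[R] ResidueField V := { (residue V).comp eV.toRingHom with
      commutes' := fun r => congrArg (residue V) (eV.commutes r) }
    let Φ : (ResidueField A ⊗[R] C) →ₐ[ResidueField A] ResidueField V :=
      Algebra.TensorProduct.lift (Algebra.ofId _ _) eR fun _ _ => .all _ _
    have hrange : ∀ b, residue V (ψ b) ∈ Φ.range := fun b => by
      induction b using TensorProduct.induction_on with
      | zero => rw [map_zero, map_zero]; exact zero_mem _
      | tmul a c =>
        refine ⟨residue A a ⊗ₜ c, ?_⟩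
        show Algebra.TensorProduct.lift _ _ _ (residue A a ⊗ₜ c) = residue V (Algebra.TensorProduct.lift _ _ _ (a ⊗ₜ c))
        rw [Algebra.TensorProduct.lift_tmul, Algebra.TensorProduct.lift_tmul, map_mul]
        rfl
      | add x y hx hy => rw [map_add, map_add]; exact add_mem hx hy
    have hsurj : Function.Surjective Φ := fun y => by
      obtain ⟨r, s, hs, hrs⟩ := hres y
      have hF : IsField Φ.range := @isField_of_isIntegral_of_isField' (ResidueField A) Φ.range _ _ _ _ _
        (Field.toIsField _)
      obtain ⟨t, ht⟩ := hF.mul_inv_cancel (a := ⟨_, hrange s⟩) fun h => hs (congrArg Subtype.val h)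
      have ht' : residue V (ψ s) * (t : ResidueField V) = 1 := congrArg Subtype.val ht
      have hy : y = residue V (ψ r) * (t : ResidueField V) := by
        rw [show residue V (ψ r) = y * residue V (ψ s) from hrs.symm, mul_assoc, ht', mul_one]
      exact hy ▸ Φ.range.mul_mem (hrange r) t.2
    haveI : Algebra.FormallyUnramified (ResidueField A) (ResidueField V) :=
      Algebra.FormallyUnramified.of_surjective Φ hsurj
    exact Algebra.FormallyUnramified.isSeparable _ _
  · have h1 : Ideal.ramificationIdx' (maximalIdeal A) (maximalIdeal V) = 1 :=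
      Ideal.ramificationIdx'_spec (by rw [pow_one]; exact hmap.le) (fun h => (Ideal.pow_succ_lt_pow
        (IsDiscreteValuationRing.not_a_field V) 1).not_ge ((pow_one _).le.trans (hmap.ge.trans h)))
    rw [h1]
    exact hp.not_dvd_one

end Groth.L05.EtRamProper
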